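import Mathlib
import Groth.Agent.FreeQuotEt.Normal

/-! Quotients by finite groups are étale exactly at points with trivial stabilizer. -/

set_option autoImplicit false
set_option maxHeartbeats 1000000
universe u v w

open scoped Pointwise

namespace Groth.Agent.FreeQuotEt

variable {k : Type u} [Field k] [IsAlgClosed k] {R : Type v} [CommRing R] [IsDomain R] [Algebra k R]
  [Algebra.FiniteType k R] {G : Type w} [Group G] [Finite G] [MulSemiringAction G R] [SMulCommClass G k R]
  {B : Type v} [CommRing B] [Algebra k B] [Algebra B R] [IsScalarTower k B R]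
  [SMulCommClass G B R] (m : Ideal R) [m.IsMaximal]

include k in
theorem exists_scalar (x : R) : ∃ c : k, x - algebraMap k R c ∈ m := by
  letI := Ideal.Quotient.field m
  haveI : Module.Finite k (R ⧸ m) := finite_of_finite_type_of_isJacobsonRing k (R ⧸ m)
  obtain ⟨c, hc⟩ := (IsAlgClosed.algebraMap_bijective_of_isIntegral (k := k) (K := R ⧸ m)).2
    (Ideal.Quotient.mk m x)
  exact ⟨c, Ideal.Quotient.eq.mp hc.symm⟩

omit [IsAlgClosed k] [Algebra.FiniteType k R] [IsDomain R] in
theorem exists_invariant_congr [Algebra.IsInvariant B R G] (hstab : MulAction.stabilizer G m = ⊥) (x : R)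
    (hx : x ∈ m) : ∃ y : B, x - algebraMap B R y ∈ m ^ 2 := by
  classical
  letI := Fintype.ofFinite G
  have hne : ∀ g : G, g ≠ 1 → g⁻¹ • m ≠ m := fun g hg h => hg (by
    have : g⁻¹ ∈ MulAction.stabilizer G m := h
    rw [hstab, Subgroup.mem_bot, inv_eq_one] at this
    exact this)
  let J : Ideal R := ∏ g ∈ (Finset.univ.filter fun g : G => g ≠ 1), (g⁻¹ • m) ^ 2
  have hco : IsCoprime (m ^ 2) J := IsCoprime.prod_right fun g hg => by
    refine IsCoprime.pow ?_
    rw [Ideal.isCoprime_iff_sup_eq]
    refine (inferInstance : m.IsMaximal).coprime_of_ne ?_ (hne g (Finset.mem_filter.mp hg).2).symm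
    have hmax : (g⁻¹ • m).IsMaximal := by
      rw [Ideal.pointwise_smul_def]
      exact Ideal.map_isMaximal_of_equiv (MulSemiringAction.toRingEquiv G R g⁻¹)
    exact hmax
  obtain ⟨a, ha, b, hb, hab⟩ := Submodule.mem_sup.mp
    (show (1 : R) ∈ m ^ 2 ⊔ J by rw [Ideal.isCoprime_iff_sup_eq.mp hco]; exact Submodule.mem_top)
  obtain ⟨y, hy⟩ := Algebra.IsInvariant.isInvariant (A := B) (G := G) (∑ g : G, g • (b * x)) fun h => by
    rw [Finset.smul_sum]
    simp only [smul_smul]
    exact Fintype.sum_equiv (Equiv.mulLeft h) _ _ fun g => rfl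
  refine ⟨y, ?_⟩
  rw [hy, ← Finset.sum_erase_add _ _ (Finset.mem_univ (1 : G)), one_smul]
  have h1 : x - b * x = a * x := by
    have h0 : (a + b) * x = x := by rw [hab, one_mul]
    linear_combination -h0
  rw [show x - (∑ g ∈ Finset.univ.erase (1 : G), g • (b * x) + b * x) =
    a * x - ∑ g ∈ Finset.univ.erase (1 : G), g • (b * x) by rw [← h1]; ring]
  refine Ideal.sub_mem _ (Ideal.mul_mem_right _ _ ha) (Ideal.sum_mem _ fun g hg => ?_)
  have hbJ : b * x ∈ (g⁻¹ • m) ^ 2 := by
    refine Ideal.mul_mem_right _ _ (Ideal.prod_le_inf.trans ?_ hb)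
    exact Finset.inf_le (Finset.mem_filter.mpr ⟨Finset.mem_univ g, (Finset.mem_erase.mp hg).1⟩)
  have h2 := Ideal.smul_mem_pointwise_smul g _ _ hbJ
  rw [Ideal.pointwise_smul_def, Ideal.map_pow, ← Ideal.pointwise_smul_def, smul_inv_smul] at h2
  exact h2

include k in
theorem isUnramifiedAt_of_stabilizer [Algebra.IsInvariant B R G] [Algebra.FiniteType B R]
    (hstab : MulAction.stabilizer G m = ⊥) : Algebra.IsUnramifiedAt B m := by
  haveI : Algebra.EssFiniteType B R := inferInstance
  have hle : (⊤ : Submodule R (Ω[R⁄B])) ≤ m • ⊤ := by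
    conv_lhs => rw [← KaehlerDifferential.span_range_derivation]
    refine Submodule.span_le.mpr ?_
    rintro _ ⟨x, rfl⟩
    obtain ⟨c, hc⟩ := exists_scalar (k := k) m x
    obtain ⟨y, hy⟩ := exists_invariant_congr (G := G) (B := B) m hstab _ hc
    have hz : ∀ z ∈ m ^ 2, KaehlerDifferential.D B R z ∈ m • (⊤ : Submodule R (Ω[R⁄B])) := fun z hz => by
      rw [pow_two] at hz
      induction hz using Submodule.mul_induction_on' with
      | mem_mul_mem a ha b hb =>
        rw [Derivation.leibniz]
        exact Submodule.add_mem _ (Submodule.smul_mem_smul ha Submodule.mem_top)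
          (Submodule.smul_mem_smul hb Submodule.mem_top)
      | add a _ b _ ha hb => rw [map_add]; exact Submodule.add_mem _ ha hb
    show KaehlerDifferential.D B R x ∈ _
    have h2 := hz _ hy
    rw [map_sub, map_sub, Derivation.map_algebraMap, sub_zero,
      IsScalarTower.algebraMap_apply k B R, Derivation.map_algebraMap, sub_zero] at h2
    exact h2
  obtain ⟨r, hr, hr0⟩ := Submodule.exists_sub_one_mem_and_smul_eq_zero_of_fg_of_le_smul m
    (⊤ : Submodule R (Ω[R⁄B])) (Module.Finite.fg_top) hle
  have hrm : r ∉ m := fun h => (inferInstance : m.IsMaximal).ne_top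
    ((Ideal.eq_top_iff_one m).mpr (by have := m.sub_mem h hr; simpa using this))
  have : (⟨m, inferInstance⟩ : PrimeSpectrum R) ∈ Algebra.unramifiedLocus B R := by
    rw [Algebra.unramifiedLocus_eq_compl_support, Set.mem_compl_iff, Module.notMem_support_iff]
    refine ⟨fun a b => ?_⟩
    induction a using LocalizedModule.induction_on with
    | _ a s =>
      induction b using LocalizedModule.induction_on with
      | _ b t =>
        refine LocalizedModule.mk_eq.mpr ⟨⟨r, hrm⟩, ?_⟩
        simp only [Submonoid.smul_def, hr0 _ Submodule.mem_top]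
  exact this

omit [IsDomain R] in
include k in
theorem smul_eq_self_of_isUnramifiedAt [IsDomain R] [Algebra.IsUnramifiedAt B m] (g : G) (hg : g • m = m)
    (x : R) : g • x = x := by
  let S := Localization.AtPrime m
  haveI : IsNoetherianRing R := Algebra.FiniteType.isNoetherianRing k R
  haveI : IsNoetherianRing S := IsLocalization.isNoetherianRing m.primeCompl S inferInstance
  haveI : IsDomain S := IsLocalization.isDomain_of_le_nonZeroDivisors S m.primeCompl_le_nonZeroDivisors
  have hmem : ∀ s, s ∈ m → g • s ∈ m := fun s hs => hg ▸ Ideal.smul_mem_pointwise_smul g _ _ hs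
  have hmem' : ∀ s, s ∉ m → g • s ∉ m := fun s hs h => hs (by
    rw [← hg] at h
    exact Ideal.smul_mem_pointwise_smul_iff.mp h)
  let σ : R →ₐ[B] S := (IsScalarTower.toAlgHom B R S).comp (MulSemiringAction.toAlgHom B R g)
  have hu : ∀ s : m.primeCompl, IsUnit (σ s) := fun s =>
    IsLocalization.map_units S (⟨g • (s : R), hmem' _ s.2⟩ : m.primeCompl)
  let τ : S →ₐ[B] S := IsLocalization.liftAlgHom hu
  have hτ : ∀ r, τ (algebraMap R S r) = algebraMap R S (g • r) := fun r => IsLocalization.lift_eq _ r
  let 𝔪 := IsLocalRing.maximalIdeal S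
  have key : ∀ j, (Ideal.Quotient.mkₐ B (𝔪 ^ (j + 1))).comp τ = Ideal.Quotient.mkₐ B (𝔪 ^ (j + 1)) := by
    intro j
    induction j with
    | zero =>
      have hring : ((Ideal.Quotient.mk (𝔪 ^ 1)).comp τ.toRingHom).comp (algebraMap R S) =
          (Ideal.Quotient.mk (𝔪 ^ 1)).comp (algebraMap R S) := by
        refine RingHom.ext fun r => Ideal.Quotient.eq.mpr ?_
        show τ (algebraMap R S r) - algebraMap R S r ∈ 𝔪 ^ 1
        rw [pow_one, hτ, ← map_sub, IsLocalization.AtPrime.to_map_mem_maximal_iff S m]
        obtain ⟨c, hc⟩ := exists_scalar (k := k) m r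
        have h1 := m.sub_mem (hmem _ hc) hc
        rw [smul_sub, smul_algebraMap, sub_sub_sub_cancel_right] at h1
        exact h1
      exact AlgHom.ext fun z => RingHom.congr_fun (IsLocalization.ringHom_ext m.primeCompl hring) z
    | succ j ih =>
      let p : (S ⧸ 𝔪 ^ (j + 1 + 1)) →ₐ[B] (S ⧸ 𝔪 ^ (j + 1)) :=
        Ideal.Quotient.factorₐ B (Ideal.pow_le_pow_right (Nat.le_succ _))
      let I : Ideal (S ⧸ 𝔪 ^ (j + 1 + 1)) := (𝔪 ^ (j + 1)).map (Ideal.Quotient.mk _)
      have hI : I ^ 2 = ⊥ := by
        rw [← Ideal.map_pow, Ideal.map_eq_bot_iff_le_ker, Ideal.mk_ker, ← pow_mul]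
        exact Ideal.pow_le_pow_right (by omega)
      refine Algebra.FormallyUnramified.comp_injective I hI (AlgHom.ext fun z => ?_)
      have h := AlgHom.congr_fun ih z
      simp only [AlgHom.comp_apply, Ideal.Quotient.mkₐ_eq_mk] at h ⊢
      rw [Ideal.Quotient.eq] at h ⊢
      rw [← map_sub]
      exact Ideal.mem_map_of_mem _ h
  have hfin : algebraMap R S (g • x) - algebraMap R S x = 0 := by
    have hmem : ∀ i, algebraMap R S (g • x) - algebraMap R S x ∈ 𝔪 ^ i := fun i => by
      refine Ideal.pow_le_pow_right (Nat.le_succ i) (Ideal.Quotient.eq.mp ?_)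
      rw [← hτ]
      exact AlgHom.congr_fun (key i) (algebraMap R S x)
    have := Ideal.iInf_pow_eq_bot_of_isLocalRing 𝔪 (IsLocalRing.maximalIdeal.isMaximal S).ne_top
    rw [← Submodule.mem_bot S, ← this, Submodule.mem_iInf]
    exact hmem
  exact IsLocalization.injective S m.primeCompl_le_nonZeroDivisors (sub_eq_zero.mp hfin)

include k in
theorem isEtaleAt_iff [IsIntegrallyClosed R] [FaithfulSMul G R] [FaithfulSMul B R] [Algebra.IsInvariant B R G] :
    Algebra.IsEtaleAt B m ↔ MulAction.stabilizer G m = ⊥ := by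
  constructor
  · intro h
    rw [Subgroup.eq_bot_iff_forall]
    intro g hg
    exact eq_of_smul_eq_smul (α := R) fun x => by
      rw [smul_eq_self_of_isUnramifiedAt (k := k) (B := B) m g hg x, one_smul]
  · intro h
    haveI : Algebra.FiniteType B R := Algebra.FiniteType.of_restrictScalars_finiteType k B R
    haveI := isUnramifiedAt_of_stabilizer (k := k) (B := B) m h
    have hinj := FaithfulSMul.algebraMap_injective B R
    haveI : IsDomain B := hinj.isDomain
    haveI : IsIntegrallyClosed B := by
      refine (isIntegrallyClosed_iff (FractionRing B)).2 fun {z} hz => ?_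
      obtain ⟨b, c, hc, rfl⟩ := IsFractionRing.div_surjective (A := B) z
      let Φ : FractionRing B →+* FractionRing R :=
        IsFractionRing.lift (g := (algebraMap R (FractionRing R)).comp (algebraMap B R))
          ((IsFractionRing.injective R (FractionRing R)).comp hinj)
      have hΦ : ∀ t, Φ (algebraMap B (FractionRing B) t) = algebraMap R (FractionRing R) (algebraMap B R t) :=
        fun t => IsFractionRing.lift_algebraMap _ t
      have hc0 : c ≠ 0 := nonZeroDivisors.ne_zero hc
      obtain ⟨Q, hQ, hQ0⟩ := hz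
      have hint : IsIntegral R (Φ (algebraMap B (FractionRing B) b / algebraMap B (FractionRing B) c)) := by
        refine ⟨Q.map (algebraMap B R), hQ.map _, ?_⟩
        rw [Polynomial.eval₂_map, show (algebraMap R (FractionRing R)).comp (algebraMap B R) =
          Φ.comp (algebraMap B (FractionRing B)) from RingHom.ext fun t => (hΦ t).symm,
          ← Polynomial.hom_eval₂, hQ0, map_zero]
      obtain ⟨r, hr⟩ := IsIntegrallyClosed.algebraMap_eq_of_integral hint
      have hcR : algebraMap B R c ≠ 0 := fun h => hc0 (hinj (h.trans (map_zero _).symm))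
      have hrc : r * algebraMap B R c = algebraMap B R b := by
        apply IsFractionRing.injective R (FractionRing R)
        rw [map_mul, hr, map_div₀, hΦ, hΦ,
          div_mul_cancel₀ _ ((map_ne_zero_iff _ (IsFractionRing.injective R (FractionRing R))).mpr hcR)]
      obtain ⟨y, rfl⟩ := Algebra.IsInvariant.isInvariant (A := B) (G := G) r fun g => by
        refine mul_right_cancel₀ hcR ?_
        have := congrArg (g • ·) hrc
        simp only [smul_mul', smul_algebraMap] at this
        rw [this, hrc]
      refine ⟨y, ?_⟩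
      rw [eq_div_iff ((map_ne_zero_iff _ (IsFractionRing.injective B _)).mpr hc0), ← map_mul,
        hinj ((map_mul _ _ _).trans hrc)]
    exact isEtaleAt_of_unramified_normal B R hinj m

end Groth.Agent.FreeQuotEt
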